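import Mathlib.RingTheory.AdicCompletion.RingHom
import Mathlib.RingTheory.PowerSeries.Trunc
import Mathlib.RingTheory.DiscreteValuationRing.Basic
import Mathlib.RingTheory.LocalRing.ResidueField.Basic

/-!
A complete DVR with a coefficient field is a power series ring.
-/

set_option autoImplicit false
universe u v

namespace GrothLib.DVRSeries

open IsLocalRing

theorem exists_powerSeries_algHom_bijective (K : Type u) (A : Type v) [Field K] [CommRing A] [IsDomain A]
    [IsDiscreteValuationRing A] [Algebra K A] [IsAdicComplete (maximalIdeal A) A]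
    (hK : Function.Bijective ((residue A).comp (algebraMap K A))) (x : A) (hx : maximalIdeal A = Ideal.span {x}) :
    ∃ φ : PowerSeries K →ₐ[K] A, φ PowerSeries.X = x ∧ Function.Bijective φ ∧
      ∀ (f : PowerSeries K) (n : ℕ),
        φ f - (Finset.range n).sum (fun i => algebraMap K A (PowerSeries.coeff i f) * x ^ i) ∈
          maximalIdeal A ^ n := by
  have hirr : Irreducible x := (IsDiscreteValuationRing.irreducible_iff_uniformizer x).2 hx
  have hxm : x ∈ maximalIdeal A := hx ▸ Ideal.subset_span rfl
  let S : PowerSeries K → ℕ → A := fun f n =>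
    (Finset.range n).sum (fun i => algebraMap K A (PowerSeries.coeff i f) * x ^ i)
  have hS : ∀ f n, (PowerSeries.trunc n f).eval₂ (algebraMap K A) x = S f n := fun f n =>
    PowerSeries.eval₂_trunc_eq_sum_range x _ n f
  -- truncation does not change the value modulo `mⁿ`
  have hred : ∀ (n : ℕ) (p : Polynomial K),
      Ideal.Quotient.mk (maximalIdeal A ^ n) (S (p : PowerSeries K) n) =
        Ideal.Quotient.mk (maximalIdeal A ^ n) (Polynomial.aeval x p) := fun n p => by
    rw [Ideal.Quotient.mk_eq_mk_iff_sub_mem, Polynomial.aeval_def,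
      Polynomial.eval₂_eq_sum_range' (algebraMap K A) (Nat.lt_succ_of_le (Nat.le_add_left p.natDegree n)) x]
    rw [← neg_sub]
    refine Ideal.neg_mem_iff _ |>.2 ?_
    rw [show S (p : PowerSeries K) n = ∑ i ∈ Finset.range n, algebraMap K A (p.coeff i) * x ^ i by
      simp [S, Polynomial.coeff_coe],
      ← Finset.sum_range_add_sum_Ico _ (show n ≤ (n + p.natDegree).succ by omega), add_sub_cancel_left]
    refine Ideal.sum_mem _ fun i hi => Ideal.mul_mem_left _ _ ?_
    exact Ideal.pow_le_pow_right (Finset.mem_Ico.1 hi).1 (Ideal.pow_mem_pow hxm i)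
  let F : ∀ n, PowerSeries K →ₐ[K] A ⧸ maximalIdeal A ^ n := fun n =>
    { toFun := fun f => Ideal.Quotient.mk _ (S f n)
      map_one' := by
        rw [show (1 : PowerSeries K) = ((1 : Polynomial K) : PowerSeries K) from Polynomial.coe_one.symm, hred,
          map_one, map_one]
      map_mul' := fun f g => by
        rw [← map_mul, ← hS (f * g), ← PowerSeries.trunc_trunc_mul_trunc, hS, ← Polynomial.coe_mul, hred, map_mul,
          Polynomial.aeval_def, Polynomial.aeval_def, hS, hS]
      map_zero' := by simp [S]
      map_add' := fun f g => by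
        rw [← map_add]
        congr 1
        simp [S, add_mul, Finset.sum_add_distrib]
      commutes' := fun r => by
        show Ideal.Quotient.mk _ (S (algebraMap K (PowerSeries K) r) n) = _
        rw [PowerSeries.algebraMap_eq, show (PowerSeries.C r) = ((Polynomial.C r : Polynomial K) : PowerSeries K) from
          (Polynomial.coe_C r).symm, hred, Polynomial.aeval_C]
        rfl }
  have hcompat : ∀ {m n : ℕ} (hle : m ≤ n),
      (Ideal.Quotient.factorₐ K (Ideal.pow_le_pow_right hle)).comp (F n) = F m := by
    intro m n hle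
    refine AlgHom.ext fun f => ?_
    show Ideal.Quotient.mk _ (S f n) = Ideal.Quotient.mk _ (S f m)
    rw [Ideal.Quotient.mk_eq_mk_iff_sub_mem]
    simp only [S]
    rw [← Finset.sum_sdiff (Finset.range_mono hle)
      (f := fun i => algebraMap K A (PowerSeries.coeff i f) * x ^ i), add_sub_cancel_right]
    refine Ideal.sum_mem _ fun i hi => Ideal.mul_mem_left _ _ ?_
    exact Ideal.pow_le_pow_right (by simpa using (Finset.mem_sdiff.1 hi).2) (Ideal.pow_mem_pow hxm i)
  let φ : PowerSeries K →ₐ[K] A := IsAdicComplete.liftAlgHom (maximalIdeal A) F hcompat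
  have hφ : ∀ f n, φ f - S f n ∈ maximalIdeal A ^ n := fun f n =>
    Ideal.Quotient.mk_eq_mk_iff_sub_mem _ _ |>.1 (IsAdicComplete.mk_liftAlgHom _ F hcompat n f)
  have hcopy : ∀ (a b : A), (∀ n, a - b ∈ maximalIdeal A ^ n) → a = b := fun a b h =>
    sub_eq_zero.1 (IsHausdorff.haus (inferInstance : IsHausdorff (maximalIdeal A) A) _ fun n => by
      rw [SModEq.zero, smul_eq_mul, Ideal.mul_top]; exact h n)
  refine ⟨φ, ?_, ⟨?_, ?_⟩, hφ⟩
  · refine hcopy _ _ fun n => ?_
    have h := Ideal.add_mem _ (hφ PowerSeries.X n)
      (Ideal.Quotient.mk_eq_mk_iff_sub_mem _ _ |>.1 (hred n Polynomial.X))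
    rw [Polynomial.coe_X, sub_add_sub_cancel, Polynomial.aeval_X] at h
    exact h
  · rw [injective_iff_map_eq_zero]
    intro f hf
    ext k
    rw [map_zero]
    induction k using Nat.strong_induction_on with
    | _ k ih =>
      by_contra hc
      have h := hφ f (k + 1)
      rw [hf, zero_sub, Ideal.neg_mem_iff] at h
      simp only [S, Finset.sum_range_succ] at h
      rw [Finset.sum_eq_zero fun i hi => by rw [ih i (Finset.mem_range.1 hi), map_zero, zero_mul], zero_add,
        hx, Ideal.span_singleton_pow, Ideal.mem_span_singleton, pow_succ'] at h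
      rw [mul_dvd_mul_iff_right (pow_ne_zero k hirr.ne_zero)] at h
      exact hirr.not_isUnit (isUnit_of_dvd_unit h ((isUnit_iff_ne_zero.2 hc).map (algebraMap K A)))
  · intro a
    have hstep : ∀ a : A, ∃ (c : K) (a' : A), a = algebraMap K A c + x * a' := fun a => by
      obtain ⟨c, hc⟩ := hK.2 (residue A a)
      have : a - algebraMap K A c ∈ maximalIdeal A := by
        rw [← residue_eq_zero_iff, map_sub, ← hc, RingHom.comp_apply, sub_self]
      rw [hx, Ideal.mem_span_singleton] at this
      obtain ⟨a', ha'⟩ := this
      exact ⟨c, a', by rw [← ha', add_sub_cancel]⟩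
    choose c a' hc using hstep
    let r : ℕ → A := fun n => Nat.rec a (fun _ b => a' b) n
    let f : PowerSeries K := PowerSeries.mk fun i => c (r i)
    refine ⟨f, hcopy _ _ fun n => ?_⟩
    have hr : ∀ n, a = S f n + x ^ n * r n := by
      intro n
      induction n with
      | zero => simp [S, r]
      | succ n ih =>
        calc a = S f n + x ^ n * r n := ih
          _ = S f (n + 1) + x ^ (n + 1) * r (n + 1) := by
            simp only [S, Finset.sum_range_succ]
            rw [show r n = algebraMap K A (c (r n)) + x * r (n + 1) from hc (r n), PowerSeries.coeff_mk, pow_succ]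
            ring
    rw [hr n, ← sub_sub]
    exact Ideal.sub_mem _ (hφ f n) (Ideal.mul_mem_right _ _ (Ideal.pow_mem_pow hxm n))

end GrothLib.DVRSeries
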